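import Mathlib.RingTheory.AlgebraicIndependent.TranscendenceBasis
import Mathlib.RingTheory.FiniteType
import Mathlib.RingTheory.LocalRing.ResidueField.Ideal
import Mathlib.RingTheory.Polynomial.Basic
import Mathlib.RingTheory.Algebraic.Integral

/-!
# Transcendence parameters at a point of the special fibre
-/

set_option autoImplicit false
set_option linter.unusedSectionVars false
set_option linter.style.haveILetI false
set_option maxHeartbeats 800000
universe u

open IsLocalRing MvPolynomial

namespace Groth.Agent.H8Props.StrictStage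

/-- Lifts of a transcendence basis of the residue field at a point of the special fibre. -/
theorem exists_params {R B : Type u} [CommRing R] [IsLocalRing R] [CommRing B] [Algebra R B]
    [Algebra.FiniteType R B] (p : Ideal B) [p.IsPrime] (hp : p.comap (algebraMap R B) = maximalIdeal R) :
    ∃ (d : ℕ) (t : Fin d → B),
      p.comap (aeval t : MvPolynomial (Fin d) R →ₐ[R] B).toRingHom = (maximalIdeal R).map C ∧
      ∀ b : B, ∃ Q : Polynomial (MvPolynomial (Fin d) R),
        (∃ i, Q.coeff i ∉ p.comap (aeval t : MvPolynomial (Fin d) R →ₐ[R] B).toRingHom) ∧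
        Polynomial.eval₂ (aeval t : MvPolynomial (Fin d) R →ₐ[R] B).toRingHom b Q ∈ p := by
  classical
  let k₀ := ResidueField R
  let K := p.ResidueField
  let π : B →+* K := algebraMap B K
  letI : Algebra k₀ K := (Ideal.Quotient.lift (maximalIdeal R) (π.comp (algebraMap R B)) fun r hr => by
    rw [← hp, Ideal.mem_comap] at hr
    exact (Ideal.algebraMap_residueField_eq_zero).2 hr).toAlgebra
  have hπR : ∀ r : R, algebraMap k₀ K (residue R r) = π (algebraMap R B r) := fun r => rfl
  haveI : FaithfulSMul k₀ K := (faithfulSMul_iff_algebraMap_injective _ _).2 (algebraMap k₀ K).injective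
  obtain ⟨s, hs⟩ := (inferInstance : Algebra.FiniteType R B).1
  let s₀ : Set K := π '' (s : Set B)
  have hB : ∀ b : B, π b ∈ Algebra.adjoin k₀ s₀ := by
    intro b
    have hb : b ∈ Algebra.adjoin R (s : Set B) := hs ▸ Algebra.mem_top
    induction hb using Algebra.adjoin_induction with
    | mem z hz => exact Algebra.subset_adjoin ⟨z, hz, rfl⟩
    | algebraMap r => rw [← hπR]; exact Subalgebra.algebraMap_mem _ _
    | add u v _ _ hu hv => rw [map_add]; exact add_mem hu hv
    | mul u v _ _ hu hv => rw [map_mul]; exact mul_mem hu hv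
  haveI : Algebra.IsAlgebraic (Algebra.adjoin k₀ s₀) K := ⟨fun y => by
    obtain ⟨a, b, -, rfl⟩ := IsFractionRing.div_surjective (A := B ⧸ p) y
    obtain ⟨a, rfl⟩ := Ideal.Quotient.mk_surjective a
    obtain ⟨b, rfl⟩ := Ideal.Quotient.mk_surjective b
    have halg : ∀ c : B, IsAlgebraic (Algebra.adjoin k₀ s₀) (π c) := fun c =>
      isAlgebraic_algebraMap (⟨π c, hB c⟩ : Algebra.adjoin k₀ s₀)
    rw [div_eq_mul_inv]
    exact (halg a).mul (halg b).inv⟩
  obtain ⟨t₀, ht₀s, ht₀⟩ := exists_isTranscendenceBasis_subset (R := k₀) s₀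
  haveI : Finite t₀ := Set.Finite.to_subtype (((s.finite_toSet).image π).subset ht₀s)
  obtain ⟨d, ⟨e⟩⟩ := Finite.exists_equiv_fin t₀
  have hlift : ∀ i : Fin d, ∃ z : B, π z = (e.symm i : K) := fun i => by
    obtain ⟨z, -, hz⟩ := ht₀s (e.symm i).2
    exact ⟨z, hz⟩
  choose t ht using hlift
  have hx : IsTranscendenceBasis k₀ fun i : Fin d => (e.symm i : K) := ht₀.comp_equiv e.symm
  let g : MvPolynomial (Fin d) R →+* K := π.comp (aeval t : MvPolynomial (Fin d) R →ₐ[R] B).toRingHom
  have hg : ∀ F, g F = aeval (fun i : Fin d => (e.symm i : K)) (map (residue R) F) := by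
    intro F
    refine RingHom.congr_fun (g := (aeval (fun i : Fin d => (e.symm i : K)) :
      MvPolynomial (Fin d) k₀ →ₐ[k₀] K).toRingHom.comp (map (residue R))) (ringHom_ext (fun r => ?_) fun i => ?_) F
    · show π (aeval t (C r)) = aeval _ (map (residue R) (C r))
      rw [map_C, aeval_C, aeval_C, hπR]
    · show π (aeval t (X i)) = aeval _ (map (residue R) (X i))
      rw [map_X, aeval_X, aeval_X, ht]
  have hker : ∀ F, F ∈ p.comap (aeval t : MvPolynomial (Fin d) R →ₐ[R] B).toRingHom ↔ g F = 0 := fun F =>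
    Ideal.mem_comap.trans Ideal.algebraMap_residueField_eq_zero.symm
  refine ⟨d, t, ?_, fun b => ?_⟩
  · ext F
    rw [hker, hg, MvPolynomial.mem_map_C_iff,
      ← map_zero (aeval (R := k₀) fun i : Fin d => (e.symm i : K))]
    rw [hx.1.eq_iff, MvPolynomial.ext_iff]
    simp_rw [coeff_map, coeff_zero, residue_eq_zero_iff]
  · obtain ⟨Q₀, hQ₀, hQb⟩ := hx.isAlgebraic.isAlgebraic (π b)
    have hl : Q₀.map (Algebra.adjoin k₀ (Set.range fun i : Fin d => (e.symm i : K))).val.toRingHom ∈
        Polynomial.lifts g := by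
      rw [Polynomial.lifts_iff_coeff_lifts]
      intro i
      rw [Polynomial.coeff_map]
      obtain ⟨F, hF⟩ : ((Q₀.coeff i : K)) ∈ (aeval (R := k₀) fun i : Fin d => (e.symm i : K)).range :=
        (Algebra.adjoin_range_eq_range_aeval k₀ fun i : Fin d => (e.symm i : K)).le (Q₀.coeff i).2
      obtain ⟨G, rfl⟩ := MvPolynomial.map_surjective (residue R) residue_surjective F
      exact ⟨G, (hg G).trans hF⟩
    obtain ⟨Q, hQ⟩ := hl
    change Polynomial.map g Q = _ at hQ
    refine ⟨Q, ?_, ?_⟩
    · obtain ⟨i, hi⟩ : ∃ i, Q₀.coeff i ≠ 0 := by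
        by_contra h
        push Not at h
        exact hQ₀ (Polynomial.ext (by simpa using h))
      refine ⟨i, fun h => hi (Subtype.ext ?_)⟩
      have h1 := congrArg (fun F => F.coeff i) hQ
      simp only [Polynomial.coeff_map] at h1
      exact h1.symm.trans ((hker _).1 h)
    · rw [← Ideal.algebraMap_residueField_eq_zero (I := p), Polynomial.hom_eval₂, ← Polynomial.eval_map,
        show (algebraMap B p.ResidueField).comp (aeval t : MvPolynomial (Fin d) R →ₐ[R] B).toRingHom = g from rfl, hQ,
        Polynomial.eval_map]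
      exact hQb

end Groth.Agent.H8Props.StrictStage
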