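import Groth.Agent.H8Props.StrictStage.Generic
import Groth.Agent.H8Props.StrictStage.Params
import Groth.Agent.H8Props.NLCx.HenselLift
import Mathlib.AlgebraicGeometry.Morphisms.FiniteType
import Mathlib.RingTheory.DiscreteValuationRing.TFAE

/-!
# Schemes over strictly henselian bases with a given strictly henselian local ring
-/

set_option autoImplicit false
set_option linter.unusedSectionVars false
set_option linter.style.haveILetI false
set_option maxHeartbeats 1600000
set_option synthInstance.maxHeartbeats 200000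
universe u

open IsLocalRing CategoryTheory AlgebraicGeometry MvPolynomial

namespace Groth.Agent.H8Props.StrictStage

set_option backward.isDefEq.respectTransparency false in
/-- A strictly henselian local ring of a scheme of finite type is one at a closed point of a scheme over a
strictly henselian base. -/
theorem exists_scheme_model (R : Type u) [CommRing R] [IsLocalRing R] {X : Scheme.{u}}
    (f : X ⟶ Spec (CommRingCat.of R)) [LocallyOfFiniteType f] (x : X)
    (hx : f.base x = ((closedPoint R : PrimeSpectrum R) : ↥(Spec (CommRingCat.of R))))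
    (A : Type u) [CommRing A] [IsLocalRing A] [Algebra (X.presheaf.stalk x) A]
    [IsLocalHom (algebraMap (X.presheaf.stalk x) A)] [Hensel.IsStrictHenselization (X.presheaf.stalk x) A] :
    ∃ (d : ℕ) (_ : ((maximalIdeal R).map (C : R →+* MvPolynomial (Fin d) R)).IsPrime)
      (R' : Type u) (_ : CommRing R') (_ : IsLocalRing R')
      (_ : Algebra (Localization.AtPrime ((maximalIdeal R).map (C : R →+* MvPolynomial (Fin d) R))) R')
      (_ : IsLocalHom (algebraMap (Localization.AtPrime ((maximalIdeal R).map (C : R →+* MvPolynomial (Fin d) R))) R'))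
      (_ : Hensel.IsStrictHenselization
        (Localization.AtPrime ((maximalIdeal R).map (C : R →+* MvPolynomial (Fin d) R))) R')
      (X' : Scheme.{u}) (f' : X' ⟶ Spec (CommRingCat.of R'))
      (_ : LocallyOfFiniteType f') (_ : QuasiCompact f') (x' : X') (_ : IsClosed ({x'} : Set X'))
      (_ : f'.base x' = ((closedPoint R' : PrimeSpectrum R') : ↥(Spec (CommRingCat.of R'))))
      (_ : Algebra (X'.presheaf.stalk x') A) (_ : IsLocalHom (algebraMap (X'.presheaf.stalk x') A)),
      Hensel.IsStrictHenselization (X'.presheaf.stalk x') A := by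
  obtain ⟨_, ⟨(U : X.Opens), (hU : IsAffineOpen U), rfl⟩, hxU, -⟩ :=
    X.isBasis_affineOpens.exists_subset_of_mem_open (Set.mem_univ x) isOpen_univ
  obtain ⟨φ, hφ⟩ := Spec.map_surjective (hU.fromSpec ≫ f)
  letI : Algebra R Γ(X, U) := φ.hom.toAlgebra
  haveI : Algebra.FiniteType R Γ(X, U) := by
    have : LocallyOfFiniteType (Spec.map φ) := by rw [hφ]; infer_instance
    exact (HasRingHomProperty.Spec_iff (P := @LocallyOfFiniteType)).1 this
  let p := hU.primeIdealOf ⟨x, hxU⟩
  have hp : p.asIdeal.comap (algebraMap R Γ(X, U)) = maximalIdeal R := by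
    have h : (Spec.map φ).base p = f.base x := by
      rw [hφ, Scheme.Hom.comp_apply, hU.fromSpec_primeIdealOf]
    exact congrArg PrimeSpectrum.asIdeal (h.trans hx)
  obtain ⟨d, t, ht, halg⟩ := exists_params p.asIdeal hp
  let P := MvPolynomial (Fin d) R
  let 𝔭 : Ideal P := (maximalIdeal R).map C
  haveI h𝔭 : 𝔭.IsPrime := by
    have : (p.asIdeal.comap (aeval t : P →ₐ[R] Γ(X, U)).toRingHom).IsPrime := Ideal.comap_isPrime _ _
    rwa [ht] at this
  letI : Algebra P Γ(X, U) := (aeval t : P →ₐ[R] Γ(X, U)).toRingHom.toAlgebra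
  haveI : IsScalarTower R P Γ(X, U) := IsScalarTower.of_algebraMap_eq fun r => ((aeval t).commutes r).symm
  haveI : Algebra.FiniteType P Γ(X, U) := Algebra.FiniteType.of_restrictScalars_finiteType R P Γ(X, U)
  obtain ⟨R', _, _, _, _, _⟩ := Groth.Agent.S0537.result (Localization.AtPrime 𝔭)
  letI : Algebra Γ(X, U) (X.presheaf.stalk x) := X.presheaf.algebra_section_stalk ⟨x, hxU⟩
  haveI : IsLocalization.AtPrime (X.presheaf.stalk x) p.asIdeal := hU.isLocalization_stalk ⟨x, hxU⟩
  let L := Localization.AtPrime p.asIdeal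
  let σ : L ≃ₐ[Γ(X, U)] X.presheaf.stalk x := IsLocalization.algEquiv p.asIdeal.primeCompl _ _
  letI : Algebra L A := ((algebraMap (X.presheaf.stalk x) A).comp σ.toRingEquiv.toRingHom).toAlgebra
  haveI := NLCx.isLocalHom_ringEquiv σ.toRingEquiv
  haveI : IsLocalHom (algebraMap L A) := RingHom.isLocalHom_comp _ _
  haveI : Hensel.IsStrictHenselization L A :=
    NLCx.isStrictHenselization_of_equiv (R := X.presheaf.stalk x) (R' := L) σ.toRingEquiv rfl
  obtain ⟨B'', _, _, _, q, hqm, _, _, hqR, _⟩ := exists_model (R₀ := Localization.AtPrime 𝔭) (R' := R') (A := A) 𝔭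
    p.asIdeal ht (fun b => by
      obtain ⟨Q, ⟨i, hi⟩, hQ⟩ := halg b
      exact ⟨Q, ⟨i, fun h => hi (ht.ge h)⟩, hQ⟩)
  let Y : Scheme.{u} := Spec (CommRingCat.of B'')
  let y : Y := (⟨q, inferInstance⟩ : PrimeSpectrum B'')
  let g : Y ⟶ Spec (CommRingCat.of R') := Spec.map (CommRingCat.ofHom (algebraMap R' B''))
  have hft : LocallyOfFiniteType g :=
    (HasRingHomProperty.Spec_iff (P := @LocallyOfFiniteType)).2 (RingHom.finiteType_algebraMap.2 ‹_›)
  have hgy : g.base y = ((closedPoint R' : PrimeSpectrum R') : ↥(Spec (CommRingCat.of R'))) :=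
    PrimeSpectrum.ext hqR
  have hy : IsClosed ({y} : Set Y) := (PrimeSpectrum.isClosed_singleton_iff_isMaximal _).2 hqm
  letI : Algebra B'' (Y.presheaf.stalk y) := StructureSheaf.stalkAlgebra B'' (⟨q, inferInstance⟩ : PrimeSpectrum B'')
  haveI : IsLocalization.AtPrime (Y.presheaf.stalk y) q :=
    StructureSheaf.IsLocalization.to_stalk B'' (⟨q, inferInstance⟩ : PrimeSpectrum B'')
  let τ : Y.presheaf.stalk y ≃ₐ[B''] Localization.AtPrime q := IsLocalization.algEquiv q.primeCompl _ _
  letI : Algebra (Y.presheaf.stalk y) A :=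
    ((algebraMap (Localization.AtPrime q) A).comp τ.toRingEquiv.toRingHom).toAlgebra
  haveI := NLCx.isLocalHom_ringEquiv τ.toRingEquiv
  haveI : IsLocalHom (algebraMap (Y.presheaf.stalk y) A) := RingHom.isLocalHom_comp _ _
  exact ⟨d, h𝔭, R', inferInstance, inferInstance, inferInstance, inferInstance, inferInstance, Y, g, hft,
    inferInstance, y, hy, hgy, inferInstance, inferInstance,
    NLCx.isStrictHenselization_of_equiv (R := Localization.AtPrime q) (R' := Y.presheaf.stalk y) τ.toRingEquiv rfl⟩

end Groth.Agent.H8Props.StrictStage
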