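import Groth.Prelude.Def_Hensel
import Groth.Agent.S0537
import Groth.Agent.S0538
import Groth.Agent.H9Hens.TensorHens
import Mathlib.RingTheory.FiniteType
import Mathlib.FieldTheory.IsSepClosed

/-!
# Strict henselizations as strict henselizations over a strictly henselian base
-/

set_option autoImplicit false
set_option linter.unusedSectionVars false
set_option linter.style.haveILetI false
set_option maxHeartbeats 1600000
set_option synthInstance.maxHeartbeats 200000
universe u

open IsLocalRing TensorProduct

namespace Groth.Agent.H8Props.StrictStage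

/-- A strict henselization of `L` is one of any intermediate local ring which is rigid over `L`. -/
theorem isStrictHenselization_of_intermediate {L L'' A : Type u} [CommRing L] [IsLocalRing L] [CommRing L'']
    [IsLocalRing L''] [CommRing A] [IsLocalRing A] [Algebra L L''] [Algebra L A] [Algebra L'' A]
    [IsScalarTower L L'' A] [IsLocalHom (algebraMap L A)] [IsLocalHom (algebraMap L'' A)]
    [IsLocalHom (algebraMap L L'')] [Hensel.IsStrictHenselization L A]
    (hrigid : ∀ (T : Type u) [CommRing T] [HenselianLocalRing T] (f₁ f₂ : L'' →+* T),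
      IsLocalHom f₁ → IsLocalHom f₂ → f₁.comp (algebraMap L L'') = f₂.comp (algebraMap L L'') →
      (∀ x, residue T (f₁ x) = residue T (f₂ x)) → f₁ = f₂) :
    Hensel.IsStrictHenselization L'' A := by
  have hsc := Hensel.IsStrictHenselization.isSepClosure (R := L) (S := A)
  haveI : IsScalarTower (ResidueField L) (ResidueField L'') (ResidueField A) := IsScalarTower.of_algebraMap_eq fun y => by
    obtain ⟨a, rfl⟩ := residue_surjective y
    show residue A (algebraMap L A a) = residue A (algebraMap L'' A (algebraMap L L'' a))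
    rw [← IsScalarTower.algebraMap_apply]
  refine ⟨Hensel.IsStrictHenselization.henselian (R := L), ⟨hsc.1, ?_⟩, fun T _ _ f hf τ hτ => ?_⟩
  · haveI := hsc.2
    exact Algebra.isSeparable_tower_top_of_isSeparable (ResidueField L) (ResidueField L'') (ResidueField A)
  haveI := hf
  have hτ' : τ.comp (ResidueField.map (algebraMap L A)) = ResidueField.map (f.comp (algebraMap L L'')) := by
    refine RingHom.ext fun y => ?_
    obtain ⟨a, rfl⟩ := residue_surjective y
    show τ (residue A (algebraMap L A a)) = residue T (f (algebraMap L L'' a))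
    rw [IsScalarTower.algebraMap_apply L L'' A]
    exact RingHom.congr_fun hτ (residue L'' (algebraMap L L'' a))
  haveI : IsLocalHom (f.comp (algebraMap L L'')) := RingHom.isLocalHom_comp _ _
  obtain ⟨g, ⟨hg, hgτ⟩, hu⟩ := Hensel.IsStrictHenselization.universal (R := L) (S := A) T
    (f.comp (algebraMap L L'')) τ hτ'
  refine ⟨g, ⟨?_, hgτ⟩, fun g' hg' => hu g' ⟨?_, hg'.2⟩⟩
  · haveI : IsLocalHom g := ⟨fun a ha => notMem_maximalIdeal.1 fun hm => by
      have h1 := hgτ a
      rw [(residue_eq_zero_iff a).2 hm, map_zero, residue_eq_zero_iff] at h1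
      exact (mem_maximalIdeal _).1 h1 ha⟩
    refine hrigid T _ f (RingHom.isLocalHom_comp _ _) hf ?_ fun x => ?_
    · rw [RingHom.comp_assoc, ← IsScalarTower.algebraMap_eq, hg]
    · show residue T (g (algebraMap L'' A x)) = _
      rw [hgτ]
      exact RingHom.congr_fun hτ (residue L'' x)
  · rw [← hg'.1, RingHom.comp_assoc, ← IsScalarTower.algebraMap_eq]

/-- A strict henselization of a local ring of a finite type algebra over `P` at a point over `𝔭` whose
residue field is algebraic is a strict henselization of a local ring at a closed point over the strict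
henselization of `P_𝔭`. -/
theorem exists_model {P B R₀ R' A : Type u} [CommRing P] (𝔭 : Ideal P) [𝔭.IsPrime] [CommRing R₀] [IsLocalRing R₀]
    [Algebra P R₀] [IsLocalization.AtPrime R₀ 𝔭] [CommRing R'] [IsLocalRing R'] [Algebra R₀ R']
    [IsLocalHom (algebraMap R₀ R')] [Hensel.IsStrictHenselization R₀ R'] [CommRing B] [Algebra P B]
    [Algebra.FiniteType P B] (p : Ideal B) [p.IsPrime] (hp : p.comap (algebraMap P B) = 𝔭)
    (halg : ∀ b : B, ∃ Q : Polynomial P, (∃ i, Q.coeff i ∉ 𝔭) ∧ Q.aeval b ∈ p)
    [CommRing A] [IsLocalRing A] [Algebra (Localization.AtPrime p) A]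
    [IsLocalHom (algebraMap (Localization.AtPrime p) A)] [Hensel.IsStrictHenselization (Localization.AtPrime p) A] :
    ∃ (B'' : Type u) (_ : CommRing B'') (_ : Algebra R' B'') (_ : Algebra.FiniteType R' B'') (q : Ideal B'')
      (_ : q.IsMaximal) (_ : Algebra (Localization.AtPrime q) A)
      (_ : IsLocalHom (algebraMap (Localization.AtPrime q) A)),
      q.comap (algebraMap R' B'') = maximalIdeal R' ∧
      Hensel.IsStrictHenselization (Localization.AtPrime q) A := by
  let L := Localization.AtPrime p
  letI : Algebra B A := ((algebraMap L A).comp (algebraMap B L)).toAlgebra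
  haveI : IsScalarTower B L A := IsScalarTower.of_algebraMap_eq fun _ => rfl
  letI : Algebra P A := ((algebraMap B A).comp (algebraMap P B)).toAlgebra
  haveI : IsScalarTower P B A := IsScalarTower.of_algebraMap_eq fun _ => rfl
  have hBA : ∀ b : B, algebraMap B A b ∈ maximalIdeal A ↔ b ∈ p := fun b => by
    rw [IsScalarTower.algebraMap_apply B L A, mem_maximalIdeal, mem_nonunits_iff, isUnit_map_iff,
      IsLocalization.AtPrime.isUnit_to_map_iff L p, Ideal.mem_primeCompl_iff, not_not]
  have hPA : ∀ x : P, algebraMap P A x ∈ maximalIdeal A ↔ x ∈ 𝔭 := fun x => by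
    rw [IsScalarTower.algebraMap_apply P B A, hBA, ← hp, Ideal.mem_comap]
  let f₀ : R₀ →+* A := IsLocalization.lift (M := 𝔭.primeCompl) (g := algebraMap P A)
    fun y => notMem_maximalIdeal.1 fun h => y.2 ((hPA _).1 h)
  have hf₀ : ∀ x, f₀ (algebraMap P R₀ x) = algebraMap P A x := fun x => IsLocalization.lift_eq _ x
  haveI hf₀l : IsLocalHom f₀ := ⟨fun z hz => by
    obtain ⟨x, s, rfl⟩ := IsLocalization.exists_mk'_eq 𝔭.primeCompl z
    rw [IsLocalization.AtPrime.isUnit_mk'_iff R₀ 𝔭]
    intro hx
    have h := congrArg f₀ (IsLocalization.mk'_spec R₀ x s)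
    rw [map_mul, hf₀, hf₀] at h
    have h2 := (hPA x).2 hx
    rw [← h] at h2
    exact (mem_maximalIdeal _).1 h2 (hz.mul (notMem_maximalIdeal.1 fun h => s.2 ((hPA _).1 h)))⟩
  have hscA := Hensel.IsStrictHenselization.isSepClosure (R := L) (S := A)
  haveI := hscA.1
  haveI := Hensel.IsStrictHenselization.henselian (R := L) (S := A)
  have hscR := Hensel.IsStrictHenselization.isSepClosure (R := R₀) (S := R')
  haveI := hscR.2
  letI : Algebra (ResidueField R₀) (ResidueField A) := (ResidueField.map f₀).toAlgebra
  let τ : ResidueField R' →ₐ[ResidueField R₀] ResidueField A := IsSepClosed.lift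
  obtain ⟨γ, ⟨hγ, hγτ⟩, -⟩ := Hensel.IsStrictHenselization.universal (R := R₀) (S := R') A f₀ τ.toRingHom
    τ.comp_algebraMap
  letI : Algebra P R' := ((algebraMap R₀ R').comp (algebraMap P R₀)).toAlgebra
  haveI : IsScalarTower P R₀ R' := IsScalarTower.of_algebraMap_eq fun _ => rfl
  let γP : R' →ₐ[P] A :=
    { γ with commutes' := fun x => (RingHom.congr_fun hγ (algebraMap P R₀ x)).trans (hf₀ x) }
  let B'' := R' ⊗[P] B
  haveI : Algebra.FiniteType R' B'' := inferInstance
  let φ : B'' →ₐ[P] A := Algebra.TensorProduct.lift γP (IsScalarTower.toAlgHom P B A) fun _ _ => Commute.all _ _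
  have hφl : ∀ r : R', φ (r ⊗ₜ[P] (1 : B)) = γ r := fun r =>
    (Algebra.TensorProduct.lift_tmul γP (IsScalarTower.toAlgHom P B A) _ r 1).trans (by rw [map_one, mul_one]; rfl)
  have hφr : ∀ b : B, φ ((1 : R') ⊗ₜ[P] b) = algebraMap B A b := fun b =>
    (Algebra.TensorProduct.lift_tmul γP (IsScalarTower.toAlgHom P B A) _ 1 b).trans (by rw [map_one, one_mul]; rfl)
  let Ψ : B'' →+* ResidueField A := (residue A).comp φ.toRingHom
  let q : Ideal B'' := (maximalIdeal A).comap φ.toRingHom
  haveI : q.IsPrime := Ideal.comap_isPrime _ _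
  have hqR : q.comap (algebraMap R' B'') = maximalIdeal R' := by
    ext r
    show φ (r ⊗ₜ[P] (1 : B)) ∈ maximalIdeal A ↔ _
    rw [hφl, ← residue_eq_zero_iff, hγτ, map_eq_zero_iff _ τ.toRingHom.injective, residue_eq_zero_iff]
  -- the residue field of `q` is algebraic over that of `R'`
  have hker : RingHom.ker Ψ = q := by
    ext z
    rw [RingHom.mem_ker]
    exact residue_eq_zero_iff _
  letI : Algebra (ResidueField R') (ResidueField A) := τ.toRingHom.toAlgebra
  have hτ0 : ∀ x : P, algebraMap (ResidueField R') (ResidueField A) (residue R' (algebraMap P R' x)) =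
      residue A (algebraMap P A x) := fun x => by
    show τ (residue R' (algebraMap P R' x)) = _
    rw [← γP.commutes x]
    exact (hγτ _).symm
  have hintb : ∀ b : B, IsIntegral (ResidueField R') (residue A (algebraMap B A b)) := fun b => by
    obtain ⟨Q, ⟨i, hi⟩, hQ⟩ := halg b
    refine IsAlgebraic.isIntegral ⟨Q.map ((residue R').comp (algebraMap P R')), fun h0 => hi ?_, ?_⟩
    · have h1 := congrArg (fun F => F.coeff i) h0
      rw [Polynomial.coeff_map, Polynomial.coeff_zero] at h1
      rw [← hPA, ← residue_eq_zero_iff, ← hτ0]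
      rw [show residue R' (algebraMap P R' (Q.coeff i)) = 0 from h1, map_zero]
    · have h2 : (residue A).comp (algebraMap B A) (Q.aeval b) = 0 := (residue_eq_zero_iff _).2 ((hBA _).2 hQ)
      rw [Polynomial.aeval_def, Polynomial.eval₂_map]
      rw [Polynomial.aeval_def, Polynomial.hom_eval₂] at h2
      refine Eq.trans ?_ h2
      congr 1
      refine RingHom.ext fun x => ?_
      simp only [RingHom.comp_apply]
      rw [hτ0, ← IsScalarTower.algebraMap_apply P B A]
  have hqmax : q.IsMaximal := by
    have hint : ∀ z : B'', IsIntegral (ResidueField R') (Ψ z) := by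
      intro z
      induction z using TensorProduct.induction_on with
      | zero => rw [map_zero]; exact isIntegral_zero
      | add a b ha hb => rw [map_add]; exact ha.add hb
      | tmul r b =>
        have : Ψ (r ⊗ₜ[P] b) = algebraMap (ResidueField R') (ResidueField A) (residue R' r) *
            residue A (algebraMap B A b) := by
          show residue A (φ (r ⊗ₜ[P] b)) = _
          rw [show r ⊗ₜ[P] b = (r ⊗ₜ[P] (1 : B)) * ((1 : R') ⊗ₜ[P] b) by simp, map_mul, map_mul, hφl, hφr, hγτ]
          rfl
        rw [this]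
        exact isIntegral_algebraMap.mul (hintb b)
    let D : Subalgebra (ResidueField R') (ResidueField A) :=
      { Ψ.range.toSubsemiring with
        algebraMap_mem' := fun c => by
          obtain ⟨r, rfl⟩ := residue_surjective c
          refine ⟨r ⊗ₜ[P] (1 : B), ?_⟩
          show residue A (φ (r ⊗ₜ[P] (1 : B))) = _
          rw [hφl, hγτ]
          rfl }
    haveI : Algebra.IsIntegral (ResidueField R') D := ⟨fun x => by
      obtain ⟨d, z, hz⟩ := x
      refine (isIntegral_algHom_iff D.val Subtype.val_injective).1 ?_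
      show IsIntegral (ResidueField R') d
      rw [← hz]
      exact hint z⟩
    have hD : IsField D := isField_of_isIntegral_of_isField' (Field.toIsField (ResidueField R'))
    rw [← hker]
    let e : B'' ⧸ RingHom.ker Ψ ≃+* D := (RingHom.quotientKerEquivRange Ψ).trans (RingEquiv.refl _)
    exact Ideal.Quotient.maximal_of_isField _ (MulEquiv.isField hD e.toMulEquiv)
  -- the local ring
  let L'' := Localization.AtPrime q
  letI : Algebra L'' A := (IsLocalization.lift (M := q.primeCompl) (g := φ.toRingHom)
    fun y => notMem_maximalIdeal.1 y.2).toAlgebra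
  have hLA : ∀ z, algebraMap L'' A (algebraMap B'' L'' z) = φ z := fun z => IsLocalization.lift_eq _ z
  haveI : IsLocalHom (algebraMap L'' A) := H9Hens.isLocalHom_of_atPrime q _ fun d hd => by
    rw [hLA]; exact hd
  let iB : B →+* L'' := (algebraMap B'' L'').comp (Algebra.TensorProduct.includeRight : B →ₐ[P] B'').toRingHom
  have hiB : ∀ b : p.primeCompl, IsUnit (iB b) := fun b =>
    IsLocalization.map_units L'' (⟨(1 : R') ⊗ₜ[P] (b : B), fun h => b.2 ((hBA _).1 (by
      have h' : φ ((1 : R') ⊗ₜ[P] (b : B)) ∈ maximalIdeal A := h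
      rwa [hφr] at h'))⟩ : q.primeCompl)
  letI : Algebra L L'' := (IsLocalization.lift hiB).toAlgebra
  have hLL : ∀ b, algebraMap L L'' (algebraMap B L b) = algebraMap B'' L'' ((1 : R') ⊗ₜ[P] b) :=
    fun b => IsLocalization.lift_eq _ b
  haveI : IsScalarTower L L'' A := IsScalarTower.of_algebraMap_eq' (IsLocalization.ringHom_ext p.primeCompl
    (RingHom.ext fun b => by
      simp only [RingHom.comp_apply]
      rw [hLL, hLA, hφr, ← IsScalarTower.algebraMap_apply]))
  haveI : IsLocalHom (algebraMap L L'') := ⟨fun z hz => isUnit_of_map_unit (algebraMap L A) z (by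
    rw [IsScalarTower.algebraMap_apply L L'' A]; exact hz.map _)⟩
  refine ⟨B'', inferInstance, inferInstance, inferInstance, q, hqmax, inferInstance, inferInstance, hqR,
    isStrictHenselization_of_intermediate (L := L) fun T _ _ f₁ f₂ h₁ h₂ hL hres => ?_⟩
  refine IsLocalization.ringHom_ext q.primeCompl (RingHom.ext fun z => ?_)
  let jR : R' →+* L'' := (algebraMap B'' L'').comp (algebraMap R' B'')
  haveI hjR : IsLocalHom jR := ⟨fun r hr => notMem_maximalIdeal.1 fun hm => by
    rw [← hqR] at hm
    exact (IsLocalization.AtPrime.isUnit_to_map_iff L'' q _).1 hr hm⟩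
  have hP : ∀ x : P, jR (algebraMap R₀ R' (algebraMap P R₀ x)) = algebraMap L L'' (algebraMap B L (algebraMap P B x)) := by
    intro x
    rw [hLL]
    show algebraMap B'' L'' (algebraMap P R' x ⊗ₜ[P] (1 : B)) = _
    rw [Algebra.algebraMap_eq_smul_one x, Algebra.algebraMap_eq_smul_one x, TensorProduct.smul_tmul]
  have hR₀ : (f₁.comp jR).comp (algebraMap R₀ R') = (f₂.comp jR).comp (algebraMap R₀ R') := by
    refine IsLocalization.ringHom_ext 𝔭.primeCompl (RingHom.ext fun x => ?_)
    show f₁ (jR (algebraMap R₀ R' (algebraMap P R₀ x))) = f₂ (jR (algebraMap R₀ R' (algebraMap P R₀ x)))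
    rw [hP]
    exact RingHom.congr_fun hL _
  haveI := h₁
  haveI := h₂
  haveI : IsLocalHom (f₁.comp jR) := RingHom.isLocalHom_comp _ _
  haveI : IsLocalHom (f₂.comp jR) := RingHom.isLocalHom_comp _ _
  haveI : IsLocalHom ((f₂.comp jR).comp (algebraMap R₀ R')) := RingHom.isLocalHom_comp _ _
  obtain ⟨gT, -, hgu⟩ := Hensel.IsStrictHenselization.universal (R := R₀) (S := R') T
    ((f₂.comp jR).comp (algebraMap R₀ R')) (ResidueField.map (f₂.comp jR))
    (ResidueField.map_comp (algebraMap R₀ R') (f₂.comp jR)).symm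
  have hR : f₁.comp jR = f₂.comp jR :=
    (hgu _ ⟨hR₀, fun r => (hres (jR r)).trans (ResidueField.map_residue (f₂.comp jR) r).symm⟩).trans
      (hgu _ ⟨rfl, fun r => (ResidueField.map_residue (f₂.comp jR) r).symm⟩).symm
  simp only [RingHom.comp_apply]
  induction z using TensorProduct.induction_on with
  | zero => simp
  | add a b ha hb => simp only [map_add, ha, hb]
  | tmul r b =>
    rw [show r ⊗ₜ[P] b = (r ⊗ₜ[P] (1 : B)) * ((1 : R') ⊗ₜ[P] b) by simp, map_mul, map_mul, map_mul, ← hLL]
    rw [show f₁ (algebraMap B'' L'' (r ⊗ₜ[P] (1 : B))) = f₂ (algebraMap B'' L'' (r ⊗ₜ[P] (1 : B))) from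
      RingHom.congr_fun hR r, show f₁ (algebraMap L L'' (algebraMap B L b)) = f₂ (algebraMap L L'' (algebraMap B L b)) from
      RingHom.congr_fun hL _]

end Groth.Agent.H8Props.StrictStage
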